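import Cfsg.Agent.Lib.NumberTheory.Cyclotomic

/-!
# Primitive prime divisors (Zsigmondy) and the size of the primitive part

`primPart n q` is the primitive part of `q ^ n - 1` for `3 ≤ n`.
A prime `r` is primitive for `(q, n)` when `orderOf (q : ZMod r) = n`; see
`orderOf_eq_iff_forall_not_dvd` for the form with `¬ r ∣ q ^ k - 1`.
-/

set_option autoImplicit false

namespace Cfsg.Agent.Lib.NumberTheory

open Finset

theorem orderOf_eq_iff_forall_not_dvd {r q n : ℕ} (hn : 0 < n) (hq : 1 ≤ q) :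
    orderOf (q : ZMod r) = n ↔
      r ∣ q ^ n - 1 ∧ ∀ k : ℕ, 0 < k → k < n → ¬ r ∣ q ^ k - 1 := by
  rw [orderOf_eq_iff hn, dvd_pow_sub_one_iff n hq]
  refine and_congr_right fun _ => ⟨fun h k hk hkn => ?_, fun h k hkn hk => ?_⟩
  · rw [dvd_pow_sub_one_iff k hq]; exact h k hkn hk
  · have := h k hk hkn; rwa [dvd_pow_sub_one_iff k hq] at this

theorem orderOf_eq_dvd_pow_sub_one {r q n : ℕ} (hq : 1 ≤ q)
    (h : orderOf (q : ZMod r) = n) : r ∣ q ^ n - 1 :=
  (dvd_pow_sub_one_iff_orderOf_dvd n hq).2 h.dvd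

theorem orderOf_eq_dvd_sub_one {r q n : ℕ} (hr : r.Prime) (hn : 0 < n)
    (h : orderOf (q : ZMod r) = n) : n ∣ r - 1 := by
  have hrq : ¬ r ∣ q := fun hd => by
    have := Fact.mk hr
    rw [(ZMod.natCast_eq_zero_iff q r).2 hd] at h
    have : orderOf (0 : ZMod r) = 0 := orderOf_zero _
    omega
  exact h ▸ orderOf_dvd_prime_sub_one hr hrq

theorem orderOf_eq_of_dvd_of_coprime {r q n m : ℕ} (hr : r.Prime) (hn : 0 < n) (hq : 2 ≤ q)
    (hrm : r ∣ m) (hm : m ∣ q ^ n - 1)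
    (hcop : ∀ i : ℕ, 1 ≤ i → i < n → Nat.Coprime m (q ^ i - 1)) :
    orderOf (q : ZMod r) = n := by
  rw [orderOf_eq_iff_forall_not_dvd hn (by omega)]
  refine ⟨hrm.trans hm, fun k hk hkn hd => hr.not_dvd_one ?_⟩
  have := Nat.dvd_gcd hrm hd
  rwa [(hcop k hk hkn).gcd_eq_one] at this

/-- A natural number all whose prime divisors are `≡ 1 (mod e)` is `≡ 1 (mod e)`. -/
theorem cast_eq_one_of_forall_prime {e : ℕ} : ∀ m : ℕ, m ≠ 0 →
    (∀ r : ℕ, r.Prime → r ∣ m → e ∣ r - 1) → ((m : ZMod e)) = 1 := by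
  intro m
  induction m using Nat.recOnMul with
  | zero => intro h; exact absurd rfl h
  | one => intros; simp
  | prime p hp =>
    intro _ h
    have h1 := (ZMod.natCast_eq_zero_iff (p - 1) e).2 (h p hp dvd_rfl)
    rw [Nat.cast_sub hp.one_le, Nat.cast_one, sub_eq_zero] at h1
    exact h1
  | mul a b iha ihb =>
    intro h0 h
    rw [mul_ne_zero_iff] at h0
    rw [Nat.cast_mul, iha h0.1 fun r hr hd => h r hr (hd.mul_right b),
      ihb h0.2 fun r hr hd => h r hr (hd.mul_left a), mul_one]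

/-- Primitive divisors of `q ^ e - 1` are congruent to one mod `e`. -/
theorem mod_eq_one_of_coprime {q e m : ℕ} (hq : 2 ≤ q) (he : 0 < e) (hm : m ∣ q ^ e - 1)
    (hcop : ∀ i : ℕ, 1 ≤ i → i < e → Nat.Coprime m (q ^ i - 1)) : m % e = 1 % e := by
  have hm0 : m ≠ 0 := fun h => by
    subst h
    have h1 := Nat.eq_zero_of_zero_dvd hm
    have h2 : 1 < q ^ e := Nat.one_lt_pow (by omega) (by omega)
    omega
  have h := cast_eq_one_of_forall_prime (e := e) m hm0 fun r hr hrm =>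
    orderOf_eq_dvd_sub_one hr he (orderOf_eq_of_dvd_of_coprime hr he hq hrm hm hcop)
  rw [← Nat.cast_one] at h
  exact (ZMod.natCast_eq_natCast_iff' _ _ _).1 h

/-! ## The primitive part -/

/-- The primitive part of `q ^ n - 1`, for `3 ≤ n`. -/
noncomputable def primPart (n q : ℕ) : ℕ := cycVal n q / Nat.gcd (cycVal n q) n

theorem primPart_mul_gcd (n q : ℕ) : primPart n q * Nat.gcd (cycVal n q) n = cycVal n q :=
  Nat.div_mul_cancel (Nat.gcd_dvd_left _ _)

theorem primPart_dvd_cycVal (n q : ℕ) : primPart n q ∣ cycVal n q :=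
  ⟨_, (primPart_mul_gcd n q).symm⟩

theorem primPart_dvd_pow_sub_one {n q : ℕ} (hn : 0 < n) (hq : 2 ≤ q) :
    primPart n q ∣ q ^ n - 1 :=
  (primPart_dvd_cycVal n q).trans (cycVal_dvd_pow_sub_one hn hq)

theorem primPart_pos {q : ℕ} (n : ℕ) (hq : 2 ≤ q) : 0 < primPart n q :=
  Nat.pos_of_ne_zero fun h => by
    have h1 := primPart_mul_gcd n q
    rw [h, zero_mul] at h1
    exact (cycVal_pos n hq).ne h1

theorem not_dvd_of_dvd_primPart {r n q : ℕ} (hr : r.Prime) (hn : 3 ≤ n) (hq : 2 ≤ q)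
    (h : r ∣ primPart n q) : ¬ r ∣ n := fun hrn => by
  have h1 : r ∣ Nat.gcd (cycVal n q) n :=
    Nat.dvd_gcd (h.trans (primPart_dvd_cycVal n q)) hrn
  apply sq_not_dvd_cycVal hr hn hq hrn
  rw [sq, ← primPart_mul_gcd n q]
  exact mul_dvd_mul h h1

theorem orderOf_eq_of_dvd_primPart {r n q : ℕ} (hr : r.Prime) (hn : 3 ≤ n) (hq : 2 ≤ q)
    (h : r ∣ primPart n q) : orderOf (q : ZMod r) = n :=
  (orderOf_eq_iff_not_dvd hr (by omega) hq (h.trans (primPart_dvd_cycVal n q))).2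
    (not_dvd_of_dvd_primPart hr hn hq h)

theorem coprime_primPart {n q : ℕ} (hn : 3 ≤ n) (hq : 2 ≤ q) :
    ∀ i : ℕ, 1 ≤ i → i < n → Nat.Coprime (primPart n q) (q ^ i - 1) := fun i h1 h2 =>
  Nat.coprime_of_dvd fun r hr hrm hri =>
    ((orderOf_eq_iff_forall_not_dvd (by omega) (by omega)).1
      (orderOf_eq_of_dvd_primPart hr hn hq hrm)).2 i h1 h2 hri

/-- `primPart n q` is the largest primitive divisor. -/
theorem dvd_primPart {n q m : ℕ} (hn : 3 ≤ n) (hq : 2 ≤ q) (hm : m ∣ q ^ n - 1)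
    (hcop : ∀ i : ℕ, 1 ≤ i → i < n → Nat.Coprime m (q ^ i - 1)) : m ∣ primPart n q := by
  have h1 : m ∣ primPart n q * Nat.gcd (cycVal n q) n := by
    rw [primPart_mul_gcd]; exact dvd_cycVal_of_coprime (by omega) hq hm hcop
  refine Nat.Coprime.dvd_of_dvd_mul_right ?_ h1
  refine Nat.coprime_of_dvd fun r hr hrm hrg => ?_
  have ho := orderOf_eq_of_dvd_of_coprime hr (by omega) hq hrm hm hcop
  have h2 : r ∣ n := hrg.trans (Nat.gcd_dvd_right _ _)
  have h3 : r ∣ cycVal n q := hrg.trans (Nat.gcd_dvd_left _ _)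
  exact (orderOf_eq_iff_not_dvd hr (by omega) hq h3).1 ho h2

theorem primPart_mod {n q : ℕ} (hn : 3 ≤ n) (hq : 2 ≤ q) : primPart n q % n = 1 := by
  rw [mod_eq_one_of_coprime hq (by omega) (primPart_dvd_pow_sub_one (by omega) hq)
    (coprime_primPart hn hq), Nat.mod_eq_of_lt (by omega)]

theorem gcd_cycVal_le_totient_succ {n q : ℕ} (hn : 3 ≤ n) (hq : 2 ≤ q) :
    Nat.gcd (cycVal n q) n ≤ Nat.totient n + 1 := by
  set g := Nat.gcd (cycVal n q) n
  rcases eq_or_ne g 1 with h | h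
  · omega
  · obtain ⟨r, hr, hrg⟩ := Nat.exists_prime_and_dvd h
    have hrc : r ∣ cycVal n q := hrg.trans (Nat.gcd_dvd_left _ _)
    have hrn : r ∣ n := hrg.trans (Nat.gcd_dvd_right _ _)
    have hall : ∀ s, s.Prime → s ∣ g → s = r := fun s hs hsg =>
      le_antisymm
        (prime_dvd_le_of_dvd_cycVal hr (by omega) hq hrc hs (hsg.trans (Nat.gcd_dvd_right _ _)))
        (prime_dvd_le_of_dvd_cycVal hs (by omega) hq (hsg.trans (Nat.gcd_dvd_left _ _)) hr hrn)
    have hg0 : g ≠ 0 := (Nat.gcd_pos_of_pos_right _ (by omega)).ne'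
    have hg : g = r := by
      have hpow := Nat.eq_prime_pow_of_unique_prime_dvd hg0 fun {d} hd hdg => hall d hd hdg
      have hlt : g.primeFactorsList.length ≤ 1 := by
        by_contra hlt
        exact sq_not_dvd_cycVal hr hn hq hrn
          ((pow_dvd_pow r (by omega : 2 ≤ g.primeFactorsList.length)).trans
            (hpow ▸ Nat.gcd_dvd_left _ _))
      obtain ⟨k, hk, hgk⟩ : ∃ k, k ≤ 1 ∧ g = r ^ k := ⟨_, hlt, hpow⟩
      interval_cases k
      · simp at hgk; contradiction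
      · simpa using hgk
    have : r - 1 ∣ Nat.totient n := by
      rw [← Nat.totient_prime hr]; exact Nat.totient_dvd_of_dvd hrn
    have := Nat.le_of_dvd (Nat.totient_pos.2 (by omega)) this
    omega

theorem self_le_two_mul_totient_sq : ∀ n : ℕ,
    n ≤ 2 * Nat.totient n ^ 2 ∧ (n % 2 = 1 → n ≤ Nat.totient n ^ 2) := by
  intro n
  induction n using Nat.recOnPrimeCoprime with
  | zero => simp
  | prime_pow p k hp =>
    rcases Nat.eq_zero_or_pos k with rfl | hk
    · simp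
    obtain ⟨i, rfl⟩ : ∃ i, k = i + 1 := ⟨k - 1, by omega⟩
    rw [Nat.totient_prime_pow hp (by omega), Nat.add_sub_cancel, mul_pow, pow_succ]
    have hi : 1 ≤ p ^ i := Nat.one_le_pow _ _ hp.pos
    have h1 : p ^ i ≤ (p ^ i) ^ 2 := by nlinarith
    rcases hp.eq_two_or_odd with rfl | hodd
    · refine ⟨by norm_num; omega, fun h => ?_⟩
      omega
    · have := hp.two_le
      obtain ⟨t, rfl⟩ : ∃ t, p = t + 3 := ⟨p - 3, by omega⟩
      have h2 : t + 3 ≤ (t + 3 - 1) ^ 2 := by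
        rw [show t + 3 - 1 = t + 2 by omega]; nlinarith
      have h3 := Nat.mul_le_mul h1 h2
      exact ⟨by omega, fun _ => h3⟩
  | coprime a b _ _ hab iha ihb =>
    rw [Nat.totient_mul hab, mul_pow]
    obtain ⟨a1, a2⟩ := iha
    obtain ⟨b1, b2⟩ := ihb
    constructor
    · rcases Nat.mod_two_eq_zero_or_one a with ha | ha
      · have hb : b % 2 = 1 := by
          by_contra hb
          have : 2 ∣ Nat.gcd a b := Nat.dvd_gcd (by omega) (by omega)
          rw [hab.gcd_eq_one] at this; omega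
        have := Nat.mul_le_mul a1 (b2 hb); rw [mul_assoc] at this; exact this
      · have := Nat.mul_le_mul (a2 ha) b1
        calc a * b ≤ _ := this
          _ = _ := by ring
    · intro h
      have h1 : a % 2 = 1 ∧ b % 2 = 1 := by
        rw [Nat.mul_mod] at h
        rcases Nat.mod_two_eq_zero_or_one a with h1 | h1 <;>
          rcases Nat.mod_two_eq_zero_or_one b with h2 | h2 <;> simp [h1, h2] at h ⊢
      exact Nat.mul_le_mul (a2 h1.1) (b2 h1.2)

theorem four_mul_cube_le_two_pow : ∀ f : ℕ, 17 ≤ f → 4 * (f + 1) * (4 * f ^ 2 + 1) ≤ 2 ^ f := by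
  intro f hf
  induction f, hf using Nat.le_induction with
  | base => norm_num
  | succ k hk ih => rw [pow_succ 2 k]; nlinarith

/-- The thirteen exceptional pairs `(q, n)`. -/
def smallPairs : List (ℕ × ℕ) :=
  [(2, 6), (2, 4), (2, 10), (2, 12), (2, 18), (3, 4), (3, 6), (5, 6), (2, 3), (2, 8), (2, 20),
    (4, 3), (4, 6)]

/-- The values `n` for which small `q` must be inspected, with the largest such `q`. -/
def smallExponents : List (ℕ × ℕ) :=
  [(3, 9), (4, 10), (5, 3), (6, 12), (7, 2), (8, 4), (9, 2), (10, 4), (12, 4), (14, 3), (15, 2),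
    (16, 2), (18, 3), (20, 2), (22, 2), (24, 2), (30, 2), (42, 2)]

/-- Triples `(n, q, m)` with `m` a primitive divisor of `q ^ n - 1` and `3 * n + 1 ≤ m`. -/
def witnesses : List (ℕ × ℕ × ℕ) :=
  [(3, 3, 13), (3, 5, 31), (3, 6, 43), (3, 7, 19), (3, 8, 73), (3, 9, 91), (4, 4, 17), (4, 5, 13),
    (4, 6, 37), (4, 7, 25), (4, 8, 65), (4, 9, 41), (4, 10, 101), (5, 2, 31), (5, 3, 121),
    (6, 6, 31), (6, 7, 43), (6, 8, 19), (6, 9, 73), (6, 10, 91), (6, 11, 37), (6, 12, 133),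
    (7, 2, 127), (8, 3, 41), (8, 4, 257), (9, 2, 73), (10, 3, 61), (10, 4, 41), (12, 3, 73),
    (12, 4, 241), (14, 2, 43), (14, 3, 547), (15, 2, 151), (16, 2, 257), (18, 3, 703),
    (22, 2, 683), (24, 2, 241), (30, 2, 331), (42, 2, 5419)]

theorem witnesses_spec : ∀ w ∈ witnesses, w.2.2 ∣ w.2.1 ^ w.1 - 1 ∧ 3 * w.1 + 1 ≤ w.2.2 ∧
    ∀ i ∈ List.range w.1, 1 ≤ i → Nat.gcd w.2.2 (w.2.1 ^ i - 1) = 1 := by
  decide +kernel

theorem smallExponents_spec : ∀ b ∈ smallExponents, ∀ q ∈ List.range (b.2 + 1), 2 ≤ q →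
    (q, b.1) ∈ smallPairs ∨ ∃ w ∈ witnesses, w.1 = b.1 ∧ w.2.1 = q := by
  decide +kernel

theorem exponents_le_512 : ∀ n ∈ List.range 513, 3 ≤ n →
    4 * (Nat.totient n + 1) * (2 * n + 1) ≤ 2 ^ Nat.totient n ∨
      ∃ b ∈ smallExponents, b.1 = n ∧
        4 * (Nat.totient n + 1) * (2 * n + 1) ≤ (b.2 + 1) ^ Nat.totient n := by
  decide +kernel

/-- Apart from thirteen pairs, the primitive part of `q ^ n - 1` is at least `3 n + 1`. -/
theorem three_mul_add_one_le_primPart {n q : ℕ} (hn : 3 ≤ n) (hq : 2 ≤ q)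
    (hex : (q, n) ∉ smallPairs) : 3 * n + 1 ≤ primPart n q := by
  by_contra hlt
  have hM : primPart n q ≤ 2 * n + 1 := by
    have h1 := primPart_mod hn hq
    have h2 := Nat.div_add_mod (primPart n q) n
    rw [h1] at h2
    by_contra h3
    have h4 : 3 ≤ primPart n q / n := by
      by_contra h4
      have : n * (primPart n q / n) ≤ n * 2 := Nat.mul_le_mul_left _ (by omega)
      omega
    have : n * 3 ≤ n * (primPart n q / n) := Nat.mul_le_mul_left _ h4
    omega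
  have hkey : q ^ Nat.totient n < 4 * (Nat.totient n + 1) * (2 * n + 1) :=
    calc q ^ Nat.totient n < 4 * cycVal n q := pow_totient_lt_four_mul_cycVal (by omega) hq
      _ ≤ 4 * ((2 * n + 1) * (Nat.totient n + 1)) := by
        rw [← primPart_mul_gcd n q]
        exact Nat.mul_le_mul_left _ (Nat.mul_le_mul hM (gcd_cycVal_le_totient_succ hn hq))
      _ = _ := by ring
  have h2pow : 2 ^ Nat.totient n ≤ q ^ Nat.totient n := Nat.pow_le_pow_left hq _
  have hnf := (self_le_two_mul_totient_sq n).1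
  have hf : Nat.totient n ≤ 16 := by
    by_contra hf
    have h3 := four_mul_cube_le_two_pow (Nat.totient n) (by omega)
    have h4 : 4 * (Nat.totient n + 1) * (2 * n + 1) ≤
        4 * (Nat.totient n + 1) * (4 * Nat.totient n ^ 2 + 1) :=
      Nat.mul_le_mul_left _ (by omega)
    omega
  have hn512 : n < 513 := by
    have : Nat.totient n ^ 2 ≤ 16 ^ 2 := Nat.pow_le_pow_left hf 2
    omega
  rcases exponents_le_512 n (List.mem_range.2 hn512) hn with h | ⟨b, hb, rfl, h⟩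
  · omega
  · have hqb : q ≤ b.2 := by
      by_contra hqb
      have := Nat.pow_le_pow_left (show b.2 + 1 ≤ q by omega) (Nat.totient b.1)
      omega
    rcases smallExponents_spec b hb q (List.mem_range.2 (by omega)) hq with h1 | ⟨w, hw, hwn, hwq⟩
    · exact hex h1
    · obtain ⟨hw1, hw2, hw3⟩ := witnesses_spec w hw
      rw [hwn, hwq] at hw1
      rw [hwn] at hw2 hw3
      have h5 := dvd_primPart hn hq hw1 fun i hi hin => by
        have := hw3 i (List.mem_range.2 hin) hi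
        rwa [hwq] at this
      have := Nat.le_of_dvd (primPart_pos b.1 hq) h5
      omega

/-- Exceptional pairs other than `(2, 6)`, with their primitive part. -/
def smallValues : List (ℕ × ℕ × ℕ) :=
  [(2, 4, 5), (2, 10, 11), (2, 12, 13), (2, 18, 19), (3, 4, 5), (3, 6, 7), (5, 6, 7), (2, 3, 7),
    (2, 8, 17), (2, 20, 41), (4, 3, 7), (4, 6, 13)]

theorem smallValues_spec : ∀ w ∈ smallValues, w.2.2 ∣ w.1 ^ w.2.1 - 1 ∧ 1 < w.2.2 ∧
    ∀ i ∈ List.range w.2.1, 1 ≤ i → Nat.gcd w.2.2 (w.1 ^ i - 1) = 1 := by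
  decide +kernel

theorem smallPairs_spec : ∀ x ∈ smallPairs, x = (2, 6) ∨
    ∃ w ∈ smallValues, (w.1, w.2.1) = x := by
  decide +kernel

theorem one_lt_primPart {n q : ℕ} (hn : 3 ≤ n) (hq : 2 ≤ q) (h6 : ¬ (q = 2 ∧ n = 6)) :
    1 < primPart n q := by
  by_cases hex : (q, n) ∈ smallPairs
  · rcases smallPairs_spec _ hex with h | ⟨w, hw, hwx⟩
    · simp at h; exact absurd h h6
    · simp only [Prod.mk.injEq] at hwx
      obtain ⟨h1, h2, h3⟩ := smallValues_spec w hw
      rw [hwx.1, hwx.2] at h1 h3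
      have := Nat.le_of_dvd (primPart_pos n hq) (dvd_primPart hn hq h1 fun i hi hin =>
        h3 i (List.mem_range.2 hin) hi)
      omega
  · have := three_mul_add_one_le_primPart hn hq hex
    omega

/-- For `n = 2`: an odd prime dividing `q + 1` is primitive. -/
theorem orderOf_eq_two_of_dvd_add_one {r q : ℕ} (hr : r.Prime) (hr2 : r ≠ 2) (h : r ∣ q + 1) :
    orderOf (q : ZMod r) = 2 := by
  have := Fact.mk hr
  have h1 : (q : ZMod r) = -1 := by
    have h2 := (ZMod.natCast_eq_zero_iff (q + 1) r).2 h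
    push_cast at h2
    linear_combination h2
  rw [h1, orderOf_neg_one, if_neg]
  rw [ZMod.ringChar_zmod_n]
  exact hr2

/-- Zsigmondy's theorem, in the order form. -/
theorem exists_primitive_prime {q n : ℕ} (hq : 2 ≤ q) (hn : 2 ≤ n) (h6 : ¬ (q = 2 ∧ n = 6))
    (h2 : ¬ (n = 2 ∧ ∃ m : ℕ, q + 1 = 2 ^ m)) :
    ∃ r : ℕ, r.Prime ∧ orderOf (q : ZMod r) = n := by
  rcases eq_or_lt_of_le hn with rfl | hn3
  · have hne : ¬ ∃ m : ℕ, q + 1 = 2 ^ m := fun h => h2 ⟨rfl, h⟩
    by_contra hnone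
    push Not at hnone
    exact hne ⟨_, Nat.eq_prime_pow_of_unique_prime_dvd (by omega) fun {d} hd hdvd =>
      by_contra fun hd2 => hnone d hd (orderOf_eq_two_of_dvd_add_one hd hd2 hdvd)⟩
  · have h1 := one_lt_primPart hn3 hq h6
    obtain ⟨r, hr, hrm⟩ := Nat.exists_prime_and_dvd (n := primPart n q) (by omega)
    exact ⟨r, hr, orderOf_eq_of_dvd_primPart hr hn3 hq hrm⟩

/-- Zsigmondy's theorem. -/
theorem exists_primitive_prime_divisor {q n : ℕ} (hq : 2 ≤ q) (hn : 2 ≤ n)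
    (h6 : ¬ (q = 2 ∧ n = 6)) (h2 : ¬ (n = 2 ∧ ∃ m : ℕ, q + 1 = 2 ^ m)) :
    ∃ r : ℕ, r.Prime ∧ r ∣ q ^ n - 1 ∧ ∀ k : ℕ, 0 < k → k < n → ¬ r ∣ q ^ k - 1 := by
  obtain ⟨r, hr, hro⟩ := exists_primitive_prime hq hn h6 h2
  exact ⟨r, hr, (orderOf_eq_iff_forall_not_dvd (by omega) (by omega)).1 hro⟩

end Cfsg.Agent.Lib.NumberTheory
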