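import Mathlib

/-!
# Values of cyclotomic polynomials at natural numbers

`cycVal n q` is the natural number `|Φ_n(q)|`.
-/

set_option autoImplicit false

namespace Cfsg.Agent.Lib.NumberTheory

open Polynomial Finset

/-- `|Φ_n(q)|` as a natural number. -/
noncomputable def cycVal (n q : ℕ) : ℕ := ((cyclotomic n ℤ).eval (q : ℤ)).natAbs

theorem coe_cycVal {q : ℕ} (n : ℕ) (hq : 2 ≤ q) :
    (cycVal n q : ℤ) = (cyclotomic n ℤ).eval (q : ℤ) := by
  unfold cycVal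
  rw [Int.natCast_natAbs, abs_of_nonneg]
  exact cyclotomic_nonneg n (by exact_mod_cast (show 1 ≤ q by omega))

theorem cycVal_pos {q : ℕ} (n : ℕ) (hq : 2 ≤ q) : 0 < cycVal n q := by
  have h : (0 : ℤ) < (cyclotomic n ℤ).eval (q : ℤ) :=
    cyclotomic_pos' n (by exact_mod_cast hq)
  rw [← coe_cycVal n hq] at h
  exact_mod_cast h

theorem one_lt_cycVal {q : ℕ} {n : ℕ} (hn : 2 ≤ n) (hq : 2 ≤ q) : 1 < cycVal n q := by
  have h := sub_one_lt_natAbs_cyclotomic_eval (n := n) (q := q) hn (by omega)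
  unfold cycVal
  omega

theorem prod_cycVal {q n : ℕ} (hn : 0 < n) (hq : 2 ≤ q) :
    ∏ d ∈ n.divisors, cycVal d q = q ^ n - 1 := by
  have h := congrArg (fun P : ℤ[X] => P.eval (q : ℤ)) (prod_cyclotomic_eq_X_pow_sub_one hn ℤ)
  simp only [eval_prod, eval_sub, eval_pow, eval_X, eval_one] at h
  have h1 : 1 ≤ q ^ n := Nat.one_le_pow _ _ (by omega)
  zify [h1]
  rw [← h]
  exact prod_congr rfl fun d _ => coe_cycVal d hq

theorem cycVal_dvd_pow_sub_one {q n : ℕ} (hn : 0 < n) (hq : 2 ≤ q) :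
    cycVal n q ∣ q ^ n - 1 := by
  rw [← prod_cycVal hn hq]
  exact dvd_prod_of_mem _ (Nat.mem_divisors_self n (by omega))

theorem cycVal_dvd_pow_sub_one_of_dvd {q n d : ℕ} (hn : 0 < n) (hd : d ∣ n) (hq : 2 ≤ q) :
    cycVal d q ∣ q ^ n - 1 := by
  rw [← prod_cycVal hn hq]
  exact dvd_prod_of_mem _ (Nat.mem_divisors.2 ⟨hd, by omega⟩)

theorem cycVal_one {q : ℕ} (hq : 2 ≤ q) : cycVal 1 q = q - 1 := by
  have := prod_cycVal (q := q) one_pos hq
  simpa using this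

theorem cycVal_two {q : ℕ} (hq : 2 ≤ q) : cycVal 2 q = q + 1 := by
  have h := coe_cycVal 2 hq
  simp [cyclotomic_two] at h
  exact_mod_cast h

/-- A number dividing `q^n - 1` and prime to every earlier `q^i - 1` divides `Φ_n(q)`. -/
theorem dvd_cycVal_of_coprime {q n m : ℕ} (hn : 0 < n) (hq : 2 ≤ q) (hm : m ∣ q ^ n - 1)
    (hcop : ∀ i : ℕ, 1 ≤ i → i < n → Nat.Coprime m (q ^ i - 1)) : m ∣ cycVal n q := by
  rw [← prod_cycVal hn hq, ← Nat.insert_self_properDivisors (by omega : n ≠ 0),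
    prod_insert Nat.self_notMem_properDivisors] at hm
  refine Nat.Coprime.dvd_of_dvd_mul_right ?_ hm
  refine Nat.Coprime.prod_right fun d hd => ?_
  rw [Nat.mem_properDivisors] at hd
  have hd0 : 0 < d := Nat.pos_of_dvd_of_pos hd.1 hn
  exact Nat.Coprime.coprime_dvd_right (cycVal_dvd_pow_sub_one hd0 hq) (hcop d hd0 hd.2)

theorem dvd_pow_sub_one_iff {p q : ℕ} (k : ℕ) (hq : 1 ≤ q) :
    p ∣ q ^ k - 1 ↔ ((q : ZMod p)) ^ k = 1 := by
  rw [← ZMod.natCast_eq_zero_iff,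
    Nat.cast_sub (Nat.one_le_pow _ _ hq), Nat.cast_pow, Nat.cast_one, sub_eq_zero]

theorem dvd_pow_sub_one_iff_orderOf_dvd {p q : ℕ} (k : ℕ) (hq : 1 ≤ q) :
    p ∣ q ^ k - 1 ↔ orderOf (q : ZMod p) ∣ k := by
  rw [dvd_pow_sub_one_iff k hq, orderOf_dvd_iff_pow_eq_one]

theorem not_dvd_of_dvd_cycVal {p q n : ℕ} (hp : p.Prime) (hn : 0 < n) (hq : 2 ≤ q)
    (h : p ∣ cycVal n q) : ¬ p ∣ q := fun hpq => by
  have h1 : p ∣ q ^ n - 1 := h.trans (cycVal_dvd_pow_sub_one hn hq)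
  have h2 : p ∣ q ^ n := dvd_pow hpq (by omega)
  have h3 : 1 ≤ q ^ n := Nat.one_le_pow _ _ (by omega)
  have h4 : p ∣ 1 := by
    have := Nat.dvd_sub h2 h1
    rwa [show q ^ n - (q ^ n - 1) = 1 by omega] at this
  exact hp.not_dvd_one h4

theorem orderOf_pos_of_not_dvd {p q : ℕ} (hp : p.Prime) (hpq : ¬ p ∣ q) :
    0 < orderOf (q : ZMod p) := by
  have := Fact.mk hp
  exact orderOf_pos_iff.2 (isOfFinOrder_iff_pow_eq_one.2
    ⟨p - 1, by have := hp.two_le; omega,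
      ZMod.pow_card_sub_one_eq_one (by rwa [Ne, ZMod.natCast_eq_zero_iff])⟩)

theorem orderOf_dvd_prime_sub_one {p q : ℕ} (hp : p.Prime) (hpq : ¬ p ∣ q) :
    orderOf (q : ZMod p) ∣ p - 1 := by
  have := Fact.mk hp
  exact ZMod.orderOf_dvd_card_sub_one (by rwa [Ne, ZMod.natCast_eq_zero_iff])

theorem not_dvd_orderOf {p q : ℕ} (hp : p.Prime) (hpq : ¬ p ∣ q) :
    ¬ p ∣ orderOf (q : ZMod p) := fun h => by
  have h2 := Nat.le_of_dvd (orderOf_pos_of_not_dvd hp hpq) h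
  have h3 := Nat.le_of_dvd (by have := hp.two_le; omega) (orderOf_dvd_prime_sub_one hp hpq)
  have := hp.two_le
  omega

theorem dvd_eval_cyclotomic_iff_isRoot {p q n : ℕ} :
    (p : ℤ) ∣ (cyclotomic n ℤ).eval (q : ℤ) ↔ (cyclotomic n (ZMod p)).IsRoot (q : ZMod p) := by
  rw [← ZMod.intCast_zmod_eq_zero_iff_dvd, IsRoot.def]
  have := cyclotomic.eval_apply (q : ℤ) n (Int.castRingHom (ZMod p))
  simp only [eq_intCast, Int.cast_natCast] at this
  rw [this]

/-- A prime `p` not dividing `q` divides `Φ_n(q)` iff `n` is the order of `q` mod `p` times a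
power of `p`. -/
theorem dvd_eval_cyclotomic_iff {p q n : ℕ} (hp : p.Prime) (hpq : ¬ p ∣ q) :
    (p : ℤ) ∣ (cyclotomic n ℤ).eval (q : ℤ) ↔ ∃ j : ℕ, n = orderOf (q : ZMod p) * p ^ j := by
  have := Fact.mk hp
  rw [dvd_eval_cyclotomic_iff_isRoot]
  rcases Nat.eq_zero_or_pos n with rfl | hn
  · have he := orderOf_pos_of_not_dvd hp hpq
    constructor
    · intro h
      rw [IsRoot.def, cyclotomic_zero, eval_one] at h
      exact absurd h one_ne_zero
    · rintro ⟨j, hj⟩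
      exact absurd hj.symm (Nat.mul_ne_zero (by omega) (pow_ne_zero _ hp.ne_zero))
  · obtain ⟨k, m, hm, rfl⟩ := Nat.exists_eq_pow_mul_and_not_dvd hn.ne' p hp.ne_one
    have : NeZero (m : ZMod p) := ⟨by rwa [Ne, ZMod.natCast_eq_zero_iff]⟩
    rw [isRoot_cyclotomic_prime_pow_mul_iff_of_charP, IsPrimitiveRoot.iff_orderOf]
    constructor
    · intro h
      exact ⟨k, by rw [h]; ring⟩
    · rintro ⟨j, hj⟩
      set e := orderOf (q : ZMod p)
      have h1 : e ∣ m := by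
        have : e ∣ p ^ k * m := ⟨p ^ j, hj⟩
        exact (Nat.Coprime.pow_right k
          ((Nat.Prime.coprime_iff_not_dvd hp).2 (not_dvd_orderOf hp hpq)).symm).dvd_of_dvd_mul_left this
      have h2 : m ∣ e := by
        have : m ∣ e * p ^ j := ⟨p ^ k, by rw [← hj]; ring⟩
        exact (Nat.Coprime.pow_right j
          ((Nat.Prime.coprime_iff_not_dvd hp).2 hm).symm).dvd_of_dvd_mul_right this
      exact Nat.dvd_antisymm h1 h2

theorem dvd_cycVal_iff {p q n : ℕ} (hp : p.Prime) (hpq : ¬ p ∣ q) :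
    p ∣ cycVal n q ↔ ∃ j : ℕ, n = orderOf (q : ZMod p) * p ^ j := by
  rw [← dvd_eval_cyclotomic_iff hp hpq]
  exact Int.natCast_dvd.symm

theorem exists_of_dvd_cycVal {p q n : ℕ} (hp : p.Prime) (hn : 0 < n) (hq : 2 ≤ q)
    (h : p ∣ cycVal n q) : ∃ j : ℕ, n = orderOf (q : ZMod p) * p ^ j :=
  (dvd_cycVal_iff hp (not_dvd_of_dvd_cycVal hp hn hq h)).1 h

/-- A prime with order exactly `n` divides `Φ_n(q)`. -/
theorem dvd_cycVal_of_orderOf_eq {p q n : ℕ} (hp : p.Prime) (hn : 0 < n)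
    (h : orderOf (q : ZMod p) = n) : p ∣ cycVal n q := by
  have := Fact.mk hp
  have hpq : ¬ p ∣ q := fun hd => by
    rw [(ZMod.natCast_eq_zero_iff q p).2 hd] at h
    have : orderOf (0 : ZMod p) = 0 := orderOf_zero _
    omega
  exact (dvd_cycVal_iff hp hpq).2 ⟨0, by simp [h]⟩

/-- A prime divisor of `Φ_n(q)` is at least every prime divisor of `n`; so an exceptional prime
divisor is the largest prime divisor of `n`. -/
theorem prime_dvd_le_of_dvd_cycVal {p r q n : ℕ} (hp : p.Prime) (hn : 0 < n) (hq : 2 ≤ q)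
    (h : p ∣ cycVal n q) (hr : r.Prime) (hrn : r ∣ n) : r ≤ p := by
  have hpq := not_dvd_of_dvd_cycVal hp hn hq h
  obtain ⟨j, hj⟩ := exists_of_dvd_cycVal hp hn hq h
  rw [hj] at hrn
  rcases hr.dvd_mul.1 hrn with h1 | h1
  · have := Nat.le_of_dvd (by have := hp.two_le; omega) (h1.trans (orderOf_dvd_prime_sub_one hp hpq))
    omega
  · exact le_of_eq ((Nat.prime_dvd_prime_iff_eq hr hp).1 (hr.dvd_of_dvd_pow h1))

theorem dvd_of_orderOf_ne {p q n : ℕ} (hp : p.Prime) (hn : 0 < n) (hq : 2 ≤ q)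
    (h : p ∣ cycVal n q) (hne : orderOf (q : ZMod p) ≠ n) : p ∣ n := by
  obtain ⟨j, hj⟩ := exists_of_dvd_cycVal hp hn hq h
  cases j with
  | zero => exact absurd (by simpa using hj.symm) hne
  | succ j => exact hj ▸ (dvd_pow_self p j.succ_ne_zero).trans (Dvd.intro_left _ rfl)

theorem orderOf_eq_iff_not_dvd {p q n : ℕ} (hp : p.Prime) (hn : 0 < n) (hq : 2 ≤ q)
    (h : p ∣ cycVal n q) : orderOf (q : ZMod p) = n ↔ ¬ p ∣ n :=
  ⟨fun he => he ▸ not_dvd_orderOf hp (not_dvd_of_dvd_cycVal hp hn hq h),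
    fun hpn => by_contra fun hne => hpn (dvd_of_orderOf_ne hp hn hq h hne)⟩

/-- An exceptional prime divisor divides `Φ_n(q)` only once (for `n ≥ 3`). -/
theorem sq_not_dvd_cycVal {p q n : ℕ} (hp : p.Prime) (hn : 3 ≤ n) (hq : 2 ≤ q)
    (hpn : p ∣ n) : ¬ p ^ 2 ∣ cycVal n q := fun hsq => by
  have hn0 : 0 < n := by omega
  have h : p ∣ cycVal n q := (dvd_pow_self p two_ne_zero).trans hsq
  have hpq := not_dvd_of_dvd_cycVal hp hn0 hq h
  obtain ⟨j, hj⟩ := exists_of_dvd_cycVal hp hn0 hq h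
  have hj0 : j ≠ 0 := fun hj0 => not_dvd_orderOf hp hpq (by
    rw [hj0, pow_zero, mul_one] at hj; rw [← hj]; exact hpn)
  have he : orderOf (q : ZMod p) ∣ n / p := by
    obtain ⟨i, rfl⟩ : ∃ i, j = i + 1 := ⟨j - 1, by omega⟩
    rw [hj, pow_succ, ← mul_assoc, Nat.mul_div_cancel _ hp.pos]
    exact dvd_mul_right _ _
  obtain ⟨d, rfl⟩ := hpn
  rw [Nat.mul_div_cancel_left _ hp.pos] at he
  have hd0 : 0 < d := Nat.pos_of_ne_zero fun hd => by simp [hd] at hn
  -- `Φ_{pd}(q)` divides `∑_{i<p} y^i` for `y = q^d`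
  have hdiv : (cycVal (p * d) q : ℤ) ∣ ∑ i ∈ range p, ((q : ℤ) ^ d) ^ i := by
    have hmem : d ∈ (p * d).properDivisors := Nat.mem_properDivisors.2
      ⟨dvd_mul_left _ _, lt_mul_left hd0 hp.one_lt⟩
    have h1 := eval_dvd (x := (q : ℤ))
      (X_pow_sub_one_mul_cyclotomic_dvd_X_pow_sub_one_of_dvd ℤ hmem)
    simp only [eval_mul, eval_sub, eval_pow, eval_X, eval_one] at h1
    rw [← coe_cycVal _ hq, show (q : ℤ) ^ (p * d) - 1 = ((q : ℤ) ^ d - 1) *
      ∑ i ∈ range p, ((q : ℤ) ^ d) ^ i by rw [mul_geom_sum, ← pow_mul, mul_comm p d]] at h1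
    refine (mul_dvd_mul_iff_left ?_).1 h1
    have : (1 : ℤ) < (q : ℤ) ^ d := one_lt_pow₀ (by exact_mod_cast hq) (by omega)
    omega
  have hy : ((p : ℤ)) ∣ (q : ℤ) ^ d - 1 := by
    have h1 : p ∣ q ^ d - 1 := (dvd_pow_sub_one_iff_orderOf_dvd d (by omega)).2 he
    have h2 : 1 ≤ q ^ d := Nat.one_le_pow _ _ (by omega)
    have h3 := Int.natCast_dvd_natCast.2 h1
    rwa [Nat.cast_sub h2, Nat.cast_pow, Nat.cast_one] at h3
  have hsum : ((p : ℤ)) ^ 2 ∣ ∑ i ∈ range p, ((q : ℤ) ^ d) ^ i :=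
    (show ((p : ℤ)) ^ 2 ∣ (cycVal (p * d) q : ℤ) by exact_mod_cast hsq).trans hdiv
  rcases hp.eq_two_or_odd with rfl | hodd
  · -- `y = q^d` is an odd square, as `d` is even
    have hd2 : 2 ∣ d := by
      obtain ⟨i, rfl⟩ : ∃ i, j = i + 1 := ⟨j - 1, by omega⟩
      have he1 : orderOf (q : ZMod 2) = 1 := by
        simpa using orderOf_dvd_prime_sub_one hp hpq
      rw [he1, one_mul, pow_succ, mul_comm (2 ^ i)] at hj
      have : d = 2 ^ i := by omega
      have hi : i ≠ 0 := by rintro rfl; simp at this; omega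
      exact this ▸ dvd_pow_self 2 hi
    obtain ⟨c, rfl⟩ := hd2
    rw [Finset.sum_range_succ, Finset.sum_range_one, pow_zero, pow_one, mul_comm 2 c,
      pow_mul] at hsum
    have hoddy : ((q : ℤ) ^ c) % 2 = 1 := by
      have hq2 : (q : ℤ) % 2 = 1 := by omega
      exact Int.odd_iff.1 ((Int.odd_iff.2 hq2).pow)
    generalize (q : ℤ) ^ c = y at hsum hoddy
    obtain ⟨u, hu⟩ : ∃ u, y = 2 * u + 1 := ⟨y / 2, by omega⟩
    subst hu
    obtain ⟨v, hv⟩ := hsum
    norm_num at hv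
    have : (4 : ℤ) ∣ 2 := ⟨v - (u ^ 2 + u), by linear_combination hv⟩
    norm_num at this
  · obtain ⟨t, ht⟩ := hy
    have hy' : (q : ℤ) ^ d = 1 + p * t := by linarith
    rw [hy'] at hsum
    have hcong : ∀ i : ℕ, (p : ℤ) ^ 2 ∣ (1 + p * t) ^ i - (1 + i * (p * t)) := by
      intro i
      induction i with
      | zero => simp
      | succ i ih =>
        obtain ⟨w, hw⟩ := ih
        refine ⟨w * (1 + p * t) + i * t ^ 2, ?_⟩
        push_cast
        rw [pow_succ]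
        linear_combination hw * (1 + (p : ℤ) * t)
    have hdiff : (p : ℤ) ^ 2 ∣ (∑ i ∈ range p, (1 + (p : ℤ) * t) ^ i) -
        ∑ i ∈ range p, (1 + (i : ℤ) * (p * t)) := by
      rw [← sum_sub_distrib]; exact dvd_sum fun i _ => hcong i
    have h3 := dvd_sub hsum hdiff
    rw [sub_sub_cancel, sum_add_distrib, ← sum_mul, sum_const, card_range, nsmul_eq_mul,
      mul_one] at h3
    have h4 : (p : ℤ) ^ 2 ∣ (∑ i ∈ range p, (i : ℤ)) * (p * t) := by
      have : (∑ i ∈ range p, (i : ℤ)) = (p : ℤ) * (((p - 1) / 2 : ℕ) : ℤ) := by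
        have h5 := Finset.sum_range_id_mul_two p
        have h6 : (∑ i ∈ range p, i) = p * ((p - 1) / 2) := by
          obtain ⟨k, hk⟩ : ∃ k, p = 2 * k + 1 := ⟨p / 2, by omega⟩
          subst hk
          rw [show (2 * k + 1 - 1) = 2 * k by omega] at h5 ⊢
          rw [Nat.mul_div_cancel_left k two_pos]
          nlinarith
        rw [← Nat.cast_sum, h6, Nat.cast_mul]
      rw [this]
      exact ⟨((p - 1) / 2 : ℕ) * t, by ring⟩
    have h7 : (p : ℤ) ^ 2 ∣ (p : ℤ) := (dvd_add_left h4).1 h3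
    have h8 : p ^ 2 ∣ p := by exact_mod_cast h7
    have h9 := Nat.le_of_dvd hp.pos h8
    have := hp.two_le
    nlinarith

/-- `q ^ φ(n) < 4 * Φ_n(q)`, by Möbius inversion. -/
theorem pow_totient_lt_four_mul_cycVal {q n : ℕ} (hn : 0 < n) (hq : 2 ≤ q) :
    q ^ Nat.totient n < 4 * cycVal n q := by
  have hqR : (2 : ℝ) ≤ q := by exact_mod_cast hq
  have hq0 : (q : ℝ) ≠ 0 := by positivity
  let f : ℕ → ℝ := fun d => (cycVal d q : ℝ) / (q : ℝ) ^ Nat.totient d
  let g : ℕ → ℝ := fun m => 1 - ((q : ℝ) ^ m)⁻¹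
  have hg : ∀ m, 0 < m → 0 < g m := fun m hm => by
    have : (1 : ℝ) < (q : ℝ) ^ m := one_lt_pow₀ (by linarith) (by omega)
    have := inv_lt_one_of_one_lt₀ this
    simp only [g]; linarith
  have hf : ∀ m, 0 < m → f m ≠ 0 := fun m _ =>
    div_ne_zero (by have := cycVal_pos m hq; positivity) (pow_ne_zero _ hq0)
  have hfg : ∀ m > 0, ∏ i ∈ m.divisors, f i = g m := fun m hm => by
    simp only [f, g]
    rw [prod_div_distrib, prod_pow_eq_pow_sum, Nat.sum_totient, ← Nat.cast_prod,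
      prod_cycVal hm hq, Nat.cast_sub (Nat.one_le_pow _ _ (by omega)), Nat.cast_pow]
    field_simp
    simp
  have key := (ArithmeticFunction.prod_eq_iff_prod_pow_moebius_eq_of_nonzero hf
    fun m hm => (hg m hm).ne').1 hfg n hn
  have hstep : ∏ x ∈ n.divisorsAntidiagonal, g x.2 ≤ f n := by
    rw [← key]
    refine prod_le_prod (fun x hx => ?_) fun x hx => ?_
    · exact (hg _ (Nat.pos_of_mem_divisors (Nat.snd_mem_divisors_of_mem_antidiagonal hx))).le
    · have h0 := hg _ (Nat.pos_of_mem_divisors (Nat.snd_mem_divisors_of_mem_antidiagonal hx))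
      have h1 : g x.2 ≤ 1 := by
        simp only [g]
        have : 0 ≤ ((q : ℝ) ^ x.2)⁻¹ := by positivity
        linarith
      calc g x.2 = g x.2 ^ (1 : ℤ) := (zpow_one _).symm
        _ ≤ g x.2 ^ (ArithmeticFunction.moebius x.1) := by
          apply zpow_le_zpow_right_of_le_one₀ h0 h1
          exact (abs_le.1 ArithmeticFunction.abs_moebius_le_one).2
  have hall : ∏ d ∈ Icc 1 n, g d ≤ ∏ x ∈ n.divisorsAntidiagonal, g x.2 := by
    rw [show ∏ x ∈ n.divisorsAntidiagonal, g x.2 = ∏ d ∈ n.divisors, g d by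
      rw [← Nat.prod_divisorsAntidiagonal' (fun _ b => g b)]]
    refine prod_le_prod_of_subset_of_le_one (fun d hd => ?_) (fun d hd => ?_) fun d hd _ => ?_
    · exact mem_Icc.2 ⟨Nat.pos_of_mem_divisors hd, Nat.divisor_le hd⟩
    · exact (hg d (mem_Icc.1 hd).1).le
    · simp only [g]
      have : 0 ≤ ((q : ℝ) ^ d)⁻¹ := by positivity
      linarith
  have hquarter : ∀ N : ℕ, (1 / 4 + ((2 : ℝ) ^ (N + 2))⁻¹) ≤ ∏ d ∈ Icc 1 (N + 1), g d := by
    intro N
    induction N with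
    | zero =>
      have : ((q : ℝ))⁻¹ ≤ 1 / 2 := by rw [one_div]; exact inv_anti₀ two_pos hqR
      simp [g]; norm_num; linarith
    | succ N ih =>
      rw [prod_Icc_succ_top (show 1 ≤ N + 1 + 1 by omega)]
      have hb : 1 - ((2 : ℝ) ^ (N + 2))⁻¹ ≤ g (N + 1 + 1) := by
        have : ((q : ℝ) ^ (N + 2))⁻¹ ≤ ((2 : ℝ) ^ (N + 2))⁻¹ :=
          inv_anti₀ (by positivity) (pow_le_pow_left₀ two_pos.le hqR _)
        simp only [g]; linarith
      set a := ((2 : ℝ) ^ (N + 2))⁻¹ with ha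
      have ha' : ((2 : ℝ) ^ (N + 1 + 2))⁻¹ = a / 2 := by
        rw [ha, show N + 1 + 2 = (N + 2) + 1 by omega, pow_succ, mul_inv]; ring
      have ha0 : 0 < a := by positivity
      have ha4 : a ≤ 1 / 4 := by
        rw [ha, show (1 / 4 : ℝ) = ((2 : ℝ) ^ 2)⁻¹ by norm_num]
        exact inv_anti₀ (by positivity) (pow_le_pow_right₀ one_le_two (by omega))
      rw [ha']
      calc 1 / 4 + a / 2 ≤ (1 / 4 + a) * (1 - a) := by nlinarith
        _ ≤ _ := mul_le_mul ih hb (by linarith) (le_trans (by positivity) ih)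
  obtain ⟨N, rfl⟩ : ∃ N, n = N + 1 := ⟨n - 1, by omega⟩
  have hlt : (1 / 4 : ℝ) < f (N + 1) := by
    have := hquarter N
    have : (0 : ℝ) < ((2 : ℝ) ^ (N + 2))⁻¹ := by positivity
    linarith
  simp only [f] at hlt
  rw [lt_div_iff₀ (by positivity)] at hlt
  have : ((q ^ Nat.totient (N + 1) : ℕ) : ℝ) < ((4 * cycVal (N + 1) q : ℕ) : ℝ) := by
    push_cast; linarith
  exact_mod_cast this

end Cfsg.Agent.Lib.NumberTheory
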